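import Mathlib
import Cfsg.Agent.Lib.Comput.Check3
import Cfsg.Agent.Lib.J2.S8.Data

/-! generated by tools/cgt -/

set_option autoImplicit false
set_option maxRecDepth 100000
set_option Elab.async false

namespace CfsgLib.J2.S8

open CfsgLib.Comput

def R6_0 : RepC := ⟨18, 1, [],
  []⟩
def S6_0 : GenC := ⟨18, [],
  [(0, 0, 0, 1, 0), (0, 1, 0, 0, 0)], 0⟩
def L6 : Level := ⟨0x0, 0x20000, [], 1, 6, 0, 2, [R6_0], [S6_0]⟩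
def X6 : Ext := []

def R5_0 : RepC := ⟨15, 2, [],
  []⟩
def S5_0 : GenC := ⟨15, [],
  [(0, 0, 0, 1, 0), (0, 1, 0, 0, 0), (18, 1, 18, 1, 18)], 0⟩
def L5 : Level := ⟨0x20000, 0x3c000, [18], 2, 5, 0, 3, [R5_0], [S5_0]⟩
def X5 : Ext := [(15, 0, 0x120f), (16, 16, 0)]

def R4_0 : RepC := ⟨12, 3, [(18, 15)],
  [(6, 1, [1])]⟩
def S4_0 : GenC := ⟨13, [(18, 15)],
  [(0, 0, 16, 1, 16), (0, 1, 0, 0, 0), (16, 1, 15, 1, 16)], 1⟩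
def L4 : Level := ⟨0x3c000, 0x3f800, [15, 18], 6, 4, 0, 4, [R4_0], [S4_0]⟩
def X4 : Ext := [(11, 13, 0), (13, 0, 18)]

def R3_0 : RepC := ⟨10, 4, [(15, 0xc10), (0x1012, 0x120d0f)],
  [(7, 2, [1, 2]), (6, 1, [1])]⟩
def S3_0 : GenC := ⟨11, [(16, 0x120d)],
  [(0, 0, 13, 1, 13), (0, 1, 0, 0, 0), (13, 1, 0x120d, 1, 13)], 2⟩
def L3 : Level := ⟨0x3f800, 0x3ff00, [13, 15, 18], 24, 3, 0, 5, [R3_0], [S3_0]⟩
def X3 : Ext := [(9, 11, 0), (8, 0, 15)]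

def R2_0 : RepC := ⟨8, 5, [(0xd0f12, 0x120b0c12), (0x1012, 0x120d0f), (18, 15)],
  [(6, 2, [1, 2, 3]), (5, 2, [1, 2]), (7, 1, [1])]⟩
def S2_0 : GenC := ⟨8, [(0xa12, 12)],
  [(0, 0, 0, 1, 0), (11, 1, 0, 0, 10), (0, 1, 10, 1, 18)], 3⟩
def L2 : Level := ⟨0x3ff00, 0x3ffc0, [11, 13, 15, 18], 120, 2, 0, 6, [R2_0], [S2_0]⟩
def X2 : Ext := [(6, 8, 0)]

def R1_0 : RepC := ⟨5, 6, [(0x120d0f, 0x110b0c10), (18, 15), (0x120d, 0x110b), (0xb0f12, 0x12070c12)],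
  [(3, 2, [1, 2, 3, 4]), (5, 2, [1, 2, 3]), (7, 2, [1, 2]), (4, 1, [1])]⟩
def S1_0 : GenC := ⟨6, [(0xa0c0f, 0x80a120d12)],
  [(0, 0, 7, 1, 7), (0, 1, 0, 0, 0), (7, 1, 0x1207, 1, 7)], 4⟩
def L1 : Level := ⟨0x3ffc0, 0x3fff8, [8, 11, 13, 15, 18], 720, 1, 0, 7, [R1_0], [S1_0]⟩
def X1 : Ext := [(4, 6, 0), (3, 0, 18)]

def R0_0 : RepC := ⟨1, 7, [(18, 18), (0xd0f, 0xd0f), (0x70a, 0x70a), (0x120b0c12, 0x120b0c12), (0xa080c, 0xa080c)],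
  [(5, 3, [1, 2, 3, 4, 5]), (3, 2, [1, 2, 3, 4]), (2, 2, [1, 2, 3]), (4, 2, [1, 2]), (6, 1, [1])]⟩
def S0_0 : GenC := ⟨1, [(0x70b, 0x70b)],
  [(0, 0, 0, 1, 0), (0, 1, 0, 0, 0), (6, 1, 6, 1, 0x507)], 5⟩
def L0 : Level := ⟨0x3fff8, 0x3ffff, [6, 8, 11, 13, 15, 18], 5040, 0, 0, 8, [R0_0], [S0_0]⟩
def X0 : Ext := [(1, 0, 0x105), (2, 2, 0)]

def top : List ℕ := [1, 2]
def gs : List ℕ := [1, 6, 8, 11, 13, 15, 18]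
def XD : Ext := [(2, 2, 0), (3, 0, 0x1030301020201), (4, 0, 0x103030303030303), (5, 5, 0), (6, 0, 0x5040606), (7, 7, 0), (8, 0, 0x60405), (9, 0, 0x80808090707), (10, 10, 0), (11, 0, 0xb0b090b0b), (12, 12, 0), (13, 0, 0xa090b), (14, 0, 0xd0e0c), (15, 0, 0xc0e0c0c), (16, 16, 0), (17, 0, 0x110f10)]

/-- all the equations of the certificate -/
structure Eqs {G : Type*} [Group G] (g : ℕ → G) : Prop where
  l6 : AllHold g L6.eqns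
  x6 : AllHold g X6.eqns
  l5 : AllHold g L5.eqns
  x5 : AllHold g X5.eqns
  l4 : AllHold g L4.eqns
  x4 : AllHold g X4.eqns
  l3 : AllHold g L3.eqns
  x3 : AllHold g X3.eqns
  l2 : AllHold g L2.eqns
  x2 : AllHold g X2.eqns
  l1 : AllHold g L1.eqns
  x1 : AllHold g X1.eqns
  l0 : AllHold g L0.eqns
  x0 : AllHold g X0.eqns
  xd : AllHold g XD.eqns

end CfsgLib.J2.S8
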